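import Groth.Agent.FittBlow95.Coker
import Groth.Agent.S15821
import Groth.Agent.S18939
import Mathlib.RingTheory.Smooth.Field
import Mathlib.RingTheory.Etale.Kaehler

/-!
# The conormal sequence of a reduced complete intersection over a perfect field
-/

set_option autoImplicit false
set_option backward.isDefEq.respectTransparency false
set_option backward.isDefEq.respectTransparency.types false
universe u

open CategoryTheory TensorProduct

namespace Groth.Agent.FittLCI95

/-- A torsion element of the first homology of the cotangent complex at a minimal prime. -/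
theorem exists_smul_h1_eq_zero {k B : Type u} [Field k] [PerfectField k] [CommRing B] [Algebra k B]
    [IsReduced B] [Algebra.FiniteType k B] (p : Ideal B) (hp : p ∈ minimalPrimes B)
    (h : Algebra.H1Cotangent k B) : ∃ s ∉ p, s • h = 0 := by
  haveI := Ideal.minimalPrimes_isPrime hp
  let T := Localization.AtPrime p
  haveI : IsReduced T := isReduced_localizationPreserves p.primeCompl T ‹_›
  have hmax : IsLocalRing.maximalIdeal T = ⊥ := by
    refine le_bot_iff.mp ((le_sInf fun q (hq : q.IsPrime) => ?_).trans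
      (nilradical_eq_sInf T ▸ (nilradical_eq_zero T).le))
    haveI := hq
    have hq' : q.comap (algebraMap B T) ≤ p :=
      (IsLocalization.AtPrime.orderIsoOfPrime T p ⟨q, hq⟩).2.2
    have hpq : p ≤ q.comap (algebraMap B T) := hp.2 ⟨Ideal.IsPrime.comap _, bot_le⟩ hq'
    rw [← IsLocalization.AtPrime.map_eq_maximalIdeal p T, Ideal.map_le_iff_le_comap]
    exact hpq
  letI : Field T := (IsLocalRing.isField_iff_maximalIdeal_eq.mpr hmax).toField
  haveI : Algebra.EssFiniteType B T := Algebra.EssFiniteType.of_isLocalization T p.primeCompl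
  haveI : Algebra.EssFiniteType k T := Algebra.EssFiniteType.comp k B T
  haveI : Algebra.FormallySmooth k T := inferInstance
  haveI := Algebra.FormallySmooth.subsingleton_h1Cotangent (R := k) (A := T)
  obtain ⟨s, hs⟩ := (IsLocalizedModule.eq_zero_iff p.primeCompl
    (Algebra.H1Cotangent.map k k B T)).mp (Subsingleton.elim (Algebra.H1Cotangent.map k k B T h) 0)
  exact ⟨s.1, s.2, hs⟩

/-- The classes of a Koszul regular generating sequence are a basis of the cotangent module. -/
theorem exists_bijective_cotangent {k B : Type u} [CommRing k] [CommRing B] [Algebra k B] {c : ℕ}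
    (P : Algebra.Extension.{u} k B) (a : Fin c → P.Ring) (hP : P.ker = Ideal.span (Set.range a))
    (hne : P.ker ≠ ⊤) (ha : LCI.IsKoszulRegularSeq P.Ring (List.ofFn a)) :
    ∃ γ : (Fin c → B) →ₗ[B] P.Cotangent, Function.Bijective γ ∧
      ∀ i, γ (Pi.single i 1) = Algebra.Extension.Cotangent.mk ⟨a i, hP ▸ Ideal.subset_span ⟨i, rfl⟩⟩ := by
  classical
  have hmem : ∀ i, a i ∈ P.ker := fun i => hP ▸ Ideal.subset_span ⟨i, rfl⟩
  let a' : Fin c → P.ker := fun i => ⟨a i, hmem i⟩
  obtain ⟨b, hb⟩ := Groth.Agent.S18939.result (I := P.ker) hne c a' ha hP.symm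
  let g : Fin c → P.Cotangent := fun i => Algebra.Extension.Cotangent.mk (a' i)
  let γ : (Fin c → B) →ₗ[B] P.Cotangent := Fintype.linearCombination B g
  have hγ : ∀ u : Fin c → P.Ring, γ (fun i => algebraMap P.Ring B (u i)) =
      Algebra.Extension.Cotangent.mk (∑ i, u i • a' i) := by
    intro u
    rw [map_sum, Fintype.linearCombination_apply]
    refine Finset.sum_congr rfl fun i _ => ?_
    rw [map_smul]
    exact algebraMap_smul B (u i) (g i)
  refine ⟨γ, ⟨(injective_iff_map_eq_zero _).2 fun v hv => funext fun i => ?_, fun x => ?_⟩,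
    fun i => by simp [γ, g, a']⟩
  · choose u hu using fun j => P.algebraMap_surjective (v j)
    rw [show v = fun j => algebraMap P.Ring B (u j) from (funext hu).symm, hγ] at hv
    have h0 : P.ker.toCotangent (∑ j, u j • a' j) = 0 := congrArg Algebra.Extension.Cotangent.val hv
    rw [map_sum] at h0
    have h1 : ∑ j, (Ideal.Quotient.mk P.ker (u j)) • b j = 0 := by
      rw [← h0]
      refine Finset.sum_congr rfl fun j _ => ?_
      rw [hb, map_smul]
      exact algebraMap_smul (P.Ring ⧸ P.ker) (u j) _
    have h2 := Fintype.linearIndependent_iff.mp b.linearIndependent _ h1 i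
    rw [← hu i]
    exact RingHom.mem_ker.mp (Ideal.Quotient.eq_zero_iff_mem.mp h2)
  · obtain ⟨⟨x, hx⟩, rfl⟩ := Algebra.Extension.Cotangent.mk_surjective x
    obtain ⟨u, hu⟩ := (Submodule.mem_span_range_iff_exists_fun P.Ring).1
      (show x ∈ Submodule.span P.Ring (Set.range a) from hP.le hx)
    refine ⟨fun i => algebraMap P.Ring B (u i), (hγ u).trans (congrArg _ (Subtype.ext ?_))⟩
    simp [a', ← hu]

variable {k : Type u} [Field k] {r c : ℕ} {B : Type u} [CommRing B] [Algebra k B]
  (φ : MvPolynomial (Fin r) k →ₐ[k] B) (a : Fin c → MvPolynomial (Fin r) k)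

/-- The conormal presentation of the differentials of a reduced complete intersection. -/
theorem exists_presentation [PerfectField k] [IsReduced B] (hφ : Function.Surjective φ)
    (ha : RingTheory.Sequence.IsRegular (MvPolynomial (Fin r) k) (List.ofFn a))
    (hker : RingHom.ker φ.toRingHom = Ideal.span (Set.range a)) :
    ∃ σ : (Fin c → B) →ₗ[B] (Fin r → B), Function.Injective σ ∧
      (∀ i j, σ (Pi.single i 1) j = φ (MvPolynomial.pderiv j (a i))) ∧
      Nonempty (((Fin r → B) ⧸ LinearMap.range σ) ≃ₗ[B] KaehlerDifferential k B) := by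
  classical
  haveI : Algebra.FiniteType k B := .of_surjective φ hφ
  let P : Algebra.Generators k B (Fin r) := Algebra.Generators.ofAlgHom φ hφ
  have hPker : P.toExtension.ker = Ideal.span (Set.range a) := by
    rw [← hker]
    change P.ker = _
    rw [Algebra.Generators.ker_eq_ker_aeval_val]
    show RingHom.ker (MvPolynomial.aeval (φ ∘ MvPolynomial.X)) = _
    rw [show MvPolynomial.aeval (φ ∘ MvPolynomial.X) = φ from by ext i; simp]
    rfl
  have hne : Ideal.span (Set.range a) ≠ ⊤ := fun h => ha.top_ne_smul (by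
    rw [smul_eq_mul, Ideal.mul_top]
    refine h.symm.trans (congrArg Ideal.span ?_)
    ext x; simp [List.mem_ofFn, eq_comm])
  obtain ⟨γ, ⟨hγinj, hγsurj⟩, hγ⟩ := exists_bijective_cotangent P.toExtension a hPker (hPker ▸ hne)
    (Groth.Agent.S15821.result _ _ ha.toIsWeaklyRegular).1
  let σ : (Fin c → B) →ₗ[B] (Fin r → B) :=
    P.cotangentSpaceBasis.equivFun.toLinearMap ∘ₗ P.toExtension.cotangentComplex ∘ₗ γ
  refine ⟨σ, ?_, fun i j => ?_, ⟨?_⟩⟩
  · refine (injective_iff_map_eq_zero _).2 fun v hv => funext fun i => ?_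
    have hv' : P.toExtension.cotangentComplex (γ v) = 0 :=
      P.cotangentSpaceBasis.equivFun.injective (hv.trans (map_zero _).symm)
    let h : P.toExtension.H1Cotangent := ⟨γ v, hv'⟩
    refine IsReduced.eq_zero _ ?_
    rw [← mem_nilradical, nilradical_eq_sInf, Ideal.mem_sInf]
    intro q (hq : q.IsPrime)
    haveI := hq
    obtain ⟨p, hp, hpq⟩ := Ideal.exists_minimalPrimes_le (I := (⊥ : Ideal B)) (J := q) bot_le
    haveI := hp.1.1
    refine hpq ?_
    obtain ⟨s, hs, hsh⟩ := exists_smul_h1_eq_zero p hp (P.equivH1Cotangent h)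
    have h0 : s • h = 0 := P.equivH1Cotangent.injective (by rw [map_smul, hsh, map_zero])
    have h1 : γ (s • v) = 0 := by
      rw [map_smul]; exact congrArg Subtype.val h0
    have h2 : s * v i = 0 := congrFun (hγinj (h1.trans (map_zero γ).symm)) i
    exact (‹p.IsPrime›.mem_or_mem (h2 ▸ p.zero_mem)).resolve_left hs
  · simp only [σ, LinearMap.comp_apply, hγ]
    rw [Algebra.Extension.cotangentComplex_mk]
    refine (P.cotangentSpaceBasis_repr_one_tmul _ _).trans ?_
    show MvPolynomial.aeval (φ ∘ MvPolynomial.X) _ = _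
    rw [show MvPolynomial.aeval (φ ∘ MvPolynomial.X) = φ from by ext i; simp]
  · refine (Submodule.Quotient.equiv _ _ P.cotangentSpaceBasis.equivFun.symm ?_).trans
      ((LinearMap.quotKerEquivOfSurjective _ P.toExtension.toKaehler_surjective))
    show Submodule.map (P.cotangentSpaceBasis.equivFun.symm.toLinearMap) (LinearMap.range σ) = _
    rw [LinearMap.exact_iff.mp P.toExtension.exact_cotangentComplex_toKaehler, ← LinearMap.range_comp]
    refine le_antisymm ?_ ?_
    · rintro _ ⟨v, rfl⟩
      exact ⟨γ v, by simp [σ]⟩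
    · rintro _ ⟨x, rfl⟩
      obtain ⟨v, rfl⟩ := hγsurj x
      exact ⟨v, by simp [σ]⟩

end Groth.Agent.FittLCI95
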