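import Groth.Agent.FittLCI95.Datum
import Groth.Agent.FittLCI95.Conormal
import Mathlib.RingTheory.Flat.TorsionFree
import Mathlib.RingTheory.PowerSeries.Inverse

/-!
# The closed fibre of a formal complete intersection over `k[[t]]`
-/

set_option autoImplicit false
set_option backward.isDefEq.respectTransparency false
set_option backward.isDefEq.respectTransparency.types false
universe u

open MvPolynomial

namespace Groth.Agent.FittLCI95

variable {k : Type u} [Field k] {r c : ℕ}

/-- Reduction of polynomials modulo the variable of the power series ring. -/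
noncomputable abbrev red (k : Type u) [Field k] (r : ℕ) :
    MvPolynomial (Fin r) (PowerSeries k) →+* MvPolynomial (Fin r) k :=
  MvPolynomial.map PowerSeries.constantCoeff

theorem red_surjective : Function.Surjective (red k r) :=
  MvPolynomial.map_surjective _ fun x => ⟨PowerSeries.C x, PowerSeries.constantCoeff_C x⟩

theorem red_eq_zero_iff (p : MvPolynomial (Fin r) (PowerSeries k)) :
    red k r p = 0 ↔ p ∈ Ideal.span {C PowerSeries.X} := by
  rw [Ideal.mem_span_singleton, C_dvd_iff_dvd_coeff, MvPolynomial.ext_iff]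
  exact forall_congr' fun i => by rw [PowerSeries.X_dvd_iff, coeff_map, coeff_zero]

theorem red_mem_span {n : ℕ} {β : Fin c → MvPolynomial (Fin r) (PowerSeries k)} {p : MvPolynomial (Fin r) (PowerSeries k)}
    (hp : p ∈ Ideal.span {C PowerSeries.X ^ (n + 1)} ⊔ Ideal.span (Set.range β)) :
    red k r p ∈ Ideal.span (Set.range fun i => red k r (β i)) := by
  have h := Ideal.mem_map_of_mem (red k r) hp
  rw [Ideal.map_sup, Ideal.map_span, Ideal.map_span, Set.image_singleton, ← Set.range_comp,
    map_pow, (red_eq_zero_iff _).2 (Ideal.mem_span_singleton_self _), zero_pow (Nat.succ_ne_zero n),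
    Ideal.span_singleton_eq_bot.2 rfl, bot_sup_eq] at h
  exact h

/-- The special fibre of the restricted power series ring. -/
theorem exists_quotient_equiv :
    ∃ e : (Restricted (PowerSeries.X (R := k)) r ⧸
        Ideal.span {algebraMap (PowerSeries k) (Restricted (PowerSeries.X (R := k)) r) PowerSeries.X ^ (0 + 1)})
          ≃+* MvPolynomial (Fin r) k,
      ∀ p, e (Ideal.Quotient.mk _ (incl _ p)) = red k r p := by
  let q : MvPolynomial (Fin r) (PowerSeries k) ⧸ baseIdeal (PowerSeries.X (R := k)) r ^ (0 + 1) →+*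
      MvPolynomial (Fin r) k :=
    Ideal.Quotient.lift _ (red k r) fun p hp => (red_eq_zero_iff p).2 (by simpa using hp)
  let F : Restricted (PowerSeries.X (R := k)) r →+* MvPolynomial (Fin r) k :=
    q.comp (AdicCompletion.evalₐ (baseIdeal (PowerSeries.X (R := k)) r) (0 + 1)).toRingHom
  have hF : ∀ p, F (incl _ p) = red k r p := fun p => by
    show q (AdicCompletion.evalₐ _ _ (incl _ p)) = _
    rw [evalₐ_incl, Ideal.Quotient.lift_mk]
  have hker : RingHom.ker F =
      Ideal.span {algebraMap (PowerSeries k) (Restricted (PowerSeries.X (R := k)) r) PowerSeries.X ^ (0 + 1)} := by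
    ext x
    rw [RingHom.mem_ker, mem_pow_iff]
    obtain ⟨p, hp⟩ := Ideal.Quotient.mk_surjective
      (AdicCompletion.evalₐ (baseIdeal (PowerSeries.X (R := k)) r) (0 + 1) x)
    show q (AdicCompletion.evalₐ _ _ x) = 0 ↔ _
    rw [← hp, Ideal.Quotient.lift_mk, red_eq_zero_iff, Ideal.Quotient.eq_zero_iff_mem, baseIdeal, pow_one]
  have hsurj : Function.Surjective F := fun y => by
    obtain ⟨p, rfl⟩ := red_surjective y
    exact ⟨incl _ p, hF p⟩
  exact ⟨(Ideal.quotEquivOfEq hker.symm).trans (RingHom.quotientKerEquivOfSurjective hsurj), hF⟩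

variable {B : Type u} [CommRing B] [Algebra (PowerSeries k) B]

/-- The Jacobian of a formal complete intersection with reduced closed fibre is injective modulo the variable. -/
theorem mem_of_mod [PerfectField k] (a : Fin c → Restricted (PowerSeries.X (R := k)) r)
    (ψ : Restricted (PowerSeries.X (R := k)) r →ₐ[PowerSeries k] B)
    (d : FormalDatum PowerSeries.X (ψ.comp (incl _)) c)
    (hd : ∀ n i, a i - incl _ (d.α n i) ∈
      Ideal.span {algebraMap (PowerSeries k) (Restricted (PowerSeries.X (R := k)) r) PowerSeries.X ^ n})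
    (hreg : RingTheory.Sequence.IsRegular
      (Restricted (PowerSeries.X (R := k)) r ⧸
        Ideal.span {algebraMap (PowerSeries k) (Restricted (PowerSeries.X (R := k)) r) PowerSeries.X ^ (0 + 1)})
      ((List.ofFn a).map (Ideal.Quotient.mk (Ideal.span {algebraMap (PowerSeries k)
        (Restricted (PowerSeries.X (R := k)) r) PowerSeries.X ^ (0 + 1)}))))
    [IsReduced (B ⧸ Ideal.span {algebraMap (PowerSeries k) B PowerSeries.X})]
    {J : Fin c → Fin r → B}
    (hJ : ∀ n i j, row (ψ.comp (incl _)) (d.α n i) j - J i j ∈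
      Ideal.span {algebraMap (PowerSeries k) B PowerSeries.X ^ n})
    (v : Fin c → B)
    (hv : ∀ j, Fintype.linearCombination B J v j ∈ Ideal.span {algebraMap (PowerSeries k) B PowerSeries.X}) :
    ∀ i, v i ∈ Ideal.span {algebraMap (PowerSeries k) B PowerSeries.X} := by
  classical
  let t := algebraMap (PowerSeries k) B PowerSeries.X
  let ρ := ψ.comp (incl (PowerSeries.X (R := k)) (r := r))
  let B₀ := B ⧸ Ideal.span {t}
  let ι : k →+* B₀ := ((Ideal.Quotient.mk (Ideal.span {t})).comp (algebraMap (PowerSeries k) B)).comp PowerSeries.C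
  letI : Algebra k B₀ := ι.toAlgebra
  let φ₀ : MvPolynomial (Fin r) k →ₐ[k] B₀ :=
    MvPolynomial.aeval fun j => Ideal.Quotient.mk (Ideal.span {t}) (ρ (X j))
  have hφ : ∀ p, φ₀ (red k r p) = Ideal.Quotient.mk (Ideal.span {t}) (ρ p) := by
    refine RingHom.congr_fun (MvPolynomial.ringHom_ext (f := φ₀.toRingHom.comp (red k r))
      (g := (Ideal.Quotient.mk (Ideal.span {t})).comp ρ.toRingHom) (fun f => ?_) fun j => ?_)
    · show φ₀ (red k r (C f)) = Ideal.Quotient.mk (Ideal.span {t}) (ρ (algebraMap _ _ f))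
      rw [ρ.commutes, red, map_C, aeval_C]
      refine Ideal.Quotient.eq.2 ?_
      rw [← map_sub]
      obtain ⟨g, hg⟩ := PowerSeries.X_dvd_iff.2
        (show PowerSeries.constantCoeff (PowerSeries.C (PowerSeries.constantCoeff f) - f) = 0 by simp)
      rw [hg, map_mul]
      exact Ideal.mul_mem_right _ _ (Ideal.mem_span_singleton_self _)
    · show φ₀ (red k r (X j)) = _
      simp [φ₀, red]
      rfl
  let ā : Fin c → MvPolynomial (Fin r) k := fun i => red k r (d.α 1 i)
  have hφs : Function.Surjective φ₀ := fun x => by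
    obtain ⟨b, rfl⟩ := Ideal.Quotient.mk_surjective x
    obtain ⟨p, hp⟩ := d.surj 1 b
    rw [pow_one] at hp
    exact ⟨red k r p, (hφ p).trans (Ideal.Quotient.eq.2 hp).symm⟩
  have hker : RingHom.ker φ₀.toRingHom = Ideal.span (Set.range ā) := by
    refine le_antisymm (fun x hx => ?_) (Ideal.span_le.2 ?_)
    · obtain ⟨p, rfl⟩ := red_surjective x
      refine red_mem_span (n := 0) (d.ker 1 p ?_)
      rw [pow_one]
      exact Ideal.Quotient.eq_zero_iff_mem.1 ((hφ p).symm.trans hx)
    · rintro _ ⟨i, rfl⟩
      refine (hφ _).trans (Ideal.Quotient.eq_zero_iff_mem.2 ?_)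
      have h := d.mem 1 i
      rw [pow_one] at h
      exact h
  have ha : RingTheory.Sequence.IsRegular (MvPolynomial (Fin r) k) (List.ofFn ā) := by
    obtain ⟨e, he⟩ := exists_quotient_equiv (k := k) (r := r)
    refine ((e.toAddEquiv).isRegular_congr ?_).1 hreg
    rw [List.map_ofFn, List.forall₂_iff_get]
    refine ⟨by simp, fun i h₁ h₂ x => ?_⟩
    simp only [List.get_ofFn, Function.comp_apply, smul_eq_mul]
    show e (_ * x) = _ * e x
    rw [map_mul]
    refine congrArg (· * e x) ?_
    rw [Ideal.Quotient.eq.2 (hd 1 _), he]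
    rfl
  obtain ⟨σ, hσ, hσe, -⟩ := exists_presentation φ₀ ā hφs ha hker
  intro i
  refine Ideal.Quotient.eq_zero_iff_mem.1 (congrFun (hσ (a₁ := fun i => Ideal.Quotient.mk (Ideal.span {t}) (v i))
    (a₂ := 0) ?_) i)
  rw [map_zero]
  refine funext fun j => ?_
  rw [← Finset.univ_sum_single (fun i => Ideal.Quotient.mk (Ideal.span {t}) (v i)), map_sum, Finset.sum_apply]
  have h1 : ∑ l, Ideal.Quotient.mk (Ideal.span {t}) (v l * J l j) = 0 := by
    rw [← map_sum, Ideal.Quotient.eq_zero_iff_mem]
    have h := hv j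
    simp only [Fintype.linearCombination_apply, Finset.sum_apply, Pi.smul_apply, smul_eq_mul] at h
    exact h
  refine Eq.trans (Finset.sum_congr rfl fun l _ => ?_) h1
  have hJ1 := hJ 1 l j
  rw [pow_one] at hJ1
  rw [show (Pi.single l (Ideal.Quotient.mk (Ideal.span {t}) (v l)) : Fin c → B₀) =
      Ideal.Quotient.mk (Ideal.span {t}) (v l) • Pi.single l 1 by rw [← Pi.single_smul, smul_eq_mul, mul_one],
    map_smul, Pi.smul_apply, smul_eq_mul, hσe, pderiv_map, hφ, map_mul]
  exact congrArg _ (Ideal.Quotient.eq.2 hJ1)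

end Groth.Agent.FittLCI95
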