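import Groth.Agent.FittLCI95.Formal
import Mathlib.RingTheory.AdicCompletion.Algebra

/-!
# Quotients of restricted power series rings
-/

set_option autoImplicit false
set_option backward.isDefEq.respectTransparency false
set_option backward.isDefEq.respectTransparency.types false
universe u

open MvPolynomial

namespace Groth.Agent.FittLCI95

variable {R : Type u} [CommRing R] {r : ℕ} (π : R)

/-- The ideal generated by the constant polynomial of an element. -/
noncomputable abbrev baseIdeal (r : ℕ) : Ideal (MvPolynomial (Fin r) R) := Ideal.span {C π}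

/-- The restricted power series ring. -/
noncomputable abbrev Restricted (r : ℕ) : Type u := AdicCompletion (baseIdeal π r) (MvPolynomial (Fin r) R)

/-- The inclusion of polynomials in restricted power series. -/
noncomputable def incl : MvPolynomial (Fin r) R →ₐ[R] Restricted π r where
  toRingHom := algebraMap (MvPolynomial (Fin r) R) (Restricted π r)
  commutes' _ := rfl

theorem incl_apply (p : MvPolynomial (Fin r) R) :
    incl π p = AdicCompletion.of (baseIdeal π r) _ p :=
  AdicCompletion.algebraMap_apply (baseIdeal π r) p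

theorem evalₐ_incl (n : ℕ) (p : MvPolynomial (Fin r) R) :
    AdicCompletion.evalₐ (baseIdeal π r) n (incl π p) = Ideal.Quotient.mk _ p := by
  rw [incl_apply, AdicCompletion.evalₐ_of]

theorem evalₐ_algebraMap_pow (n : ℕ) :
    AdicCompletion.evalₐ (baseIdeal π r) n (algebraMap R (Restricted π r) π ^ n) = 0 := by
  rw [← (incl π).commutes π, ← map_pow, evalₐ_incl]
  exact Ideal.Quotient.eq_zero_iff_mem.2 (Ideal.pow_mem_pow (Ideal.mem_span_singleton_self _) n)

theorem mem_pow_iff {n : ℕ} (x : Restricted π r) :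
    x ∈ Ideal.span {algebraMap R (Restricted π r) π ^ n} ↔
      AdicCompletion.evalₐ (baseIdeal π r) n x = 0 := by
  constructor
  · intro hx
    obtain ⟨y, rfl⟩ := Ideal.mem_span_singleton'.1 hx
    rw [map_mul, evalₐ_algebraMap_pow, mul_zero]
  · intro hx
    have h1 : (baseIdeal π r) ^ n ≤ (baseIdeal π r) ^ n • (⊤ : Ideal (MvPolynomial (Fin r) R)) := by
      rw [smul_eq_mul, Ideal.mul_top]
    have h0 : x ∈ LinearMap.ker (AdicCompletion.eval (baseIdeal π r) (MvPolynomial (Fin r) R) n) := by
      rw [LinearMap.mem_ker, ← AdicCompletion.factor_evalₐ_eq_eval _ x h1, hx, map_zero]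
    rw [← AdicCompletion.pow_smul_top_eq_ker_eval ⟨{C π}, by simp⟩, mem_span_pow_smul_top] at h0
    obtain ⟨y, rfl⟩ := h0
    refine Ideal.mem_span_singleton'.2 ⟨y, ?_⟩
    rw [Algebra.smul_def, map_pow, mul_comm]
    rfl

theorem incl_mem_pow_iff {n : ℕ} (p : MvPolynomial (Fin r) R) :
    incl π p ∈ Ideal.span {algebraMap R (Restricted π r) π ^ n} ↔ p ∈ Ideal.span {C π ^ n} := by
  rw [mem_pow_iff, evalₐ_incl, Ideal.Quotient.eq_zero_iff_mem, Ideal.span_singleton_pow]

theorem exists_sub_incl_mem (n : ℕ) (x : Restricted π r) :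
    ∃ p, x - incl π p ∈ Ideal.span {algebraMap R (Restricted π r) π ^ n} := by
  obtain ⟨p, hp⟩ := Ideal.Quotient.mk_surjective (AdicCompletion.evalₐ (baseIdeal π r) n x)
  exact ⟨p, (mem_pow_iff π _).2 (by rw [map_sub, evalₐ_incl, hp, sub_self])⟩

variable {B : Type u} [CommRing B] [Algebra R B]

theorem map_mem_pow (ψ : Restricted π r →ₐ[R] B) {n : ℕ} {x : Restricted π r}
    (hx : x ∈ Ideal.span {algebraMap R (Restricted π r) π ^ n}) :
    ψ x ∈ Ideal.span {algebraMap R B π ^ n} := by
  obtain ⟨y, rfl⟩ := Ideal.mem_span_singleton'.1 hx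
  exact Ideal.mem_span_singleton'.2 ⟨ψ y, by rw [map_mul, map_pow, ψ.commutes]⟩

/-- A quotient of a restricted power series ring is presented modulo every power. -/
theorem exists_datum (ψ : Restricted π r →ₐ[R] B) (hψ : Function.Surjective ψ) {c : ℕ}
    (a : Fin c → Restricted π r) (hker : RingHom.ker ψ.toRingHom = Ideal.span (Set.range a)) :
    ∃ d : FormalDatum π (ψ.comp (incl π)) c,
      ∀ n i, a i - incl π (d.α n i) ∈ Ideal.span {algebraMap R (Restricted π r) π ^ n} := by
  choose α hα using fun (n : ℕ) (i : Fin c) => exists_sub_incl_mem π n (a i)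
  have ha : ∀ i, ψ (a i) = 0 := fun i =>
    RingHom.mem_ker.1 (hker.ge (Ideal.subset_span ⟨i, rfl⟩))
  refine ⟨⟨α, fun n i => ?_, fun n i => ?_, fun n b => ?_, fun n q hq => ?_⟩, hα⟩
  · have h := map_mem_pow π ψ (hα n i)
    rw [map_sub, ha, zero_sub, neg_mem_iff] at h
    exact h
  · rw [← incl_mem_pow_iff, map_sub, ← sub_sub_sub_cancel_left (c := a i)]
    exact sub_mem (hα n i) (Ideal.span_singleton_le_span_singleton.2 (pow_dvd_pow _ n.le_succ) (hα (n + 1) i))
  · obtain ⟨x, rfl⟩ := hψ b
    obtain ⟨p, hp⟩ := exists_sub_incl_mem π n x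
    exact ⟨p, by simpa using map_mem_pow π ψ hp⟩
  · obtain ⟨b, hb⟩ := Ideal.mem_span_singleton'.1 hq
    obtain ⟨y, rfl⟩ := hψ b
    have h0 : incl π q - y * algebraMap R (Restricted π r) π ^ n ∈ RingHom.ker ψ.toRingHom := by
      rw [RingHom.mem_ker]
      show ψ _ = 0
      rw [map_sub, map_mul, map_pow, ψ.commutes, hb]
      exact sub_self _
    rw [hker, Submodule.mem_span_range_iff_exists_fun] at h0
    obtain ⟨u, hu⟩ := h0
    choose p hp using fun i => exists_sub_incl_mem π n (u i)
    have h1 : q - ∑ i, p i * α n i ∈ Ideal.span {C π ^ n} := by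
      rw [← incl_mem_pow_iff, map_sub, map_sum,
        show incl π q = (∑ i, u i • a i) + y * algebraMap R (Restricted π r) π ^ n from
          eq_add_of_sub_eq hu.symm,
        add_sub_right_comm, ← Finset.sum_sub_distrib]
      refine add_mem (Ideal.sum_mem _ fun i _ => ?_) (Ideal.mul_mem_left _ _ (Ideal.mem_span_singleton_self _))
      rw [smul_eq_mul, map_mul, ← sub_add_sub_cancel _ (incl π (p i) * a i), ← sub_mul, ← mul_sub]
      exact add_mem (Ideal.mul_mem_right _ _ (hp i)) (Ideal.mul_mem_left _ _ (hα n i))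
    rw [← sub_add_cancel q (∑ i, p i * α n i)]
    exact add_mem (Submodule.mem_sup_left h1)
      (Submodule.mem_sup_right (Ideal.sum_mem _ fun i _ => Ideal.mul_mem_left _ _ (Ideal.subset_span ⟨i, rfl⟩)))

end Groth.Agent.FittLCI95
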