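import Mathlib.Algebra.Homology.DerivedCategory.Ext.ExactSequences
import Mathlib.Algebra.Homology.DerivedCategory.Ext.EnoughProjectives
import Mathlib.Algebra.Homology.DerivedCategory.Ext.Linear
import Mathlib.Algebra.Category.ModuleCat.Ext.HasExt
import Mathlib.Algebra.Category.ModuleCat.Projective
import Mathlib.Algebra.Homology.ShortComplex.ModuleCat
import Mathlib.LinearAlgebra.Dual.Defs

/-!
# The first Ext group of a module with a two-term free resolution
-/

set_option autoImplicit false
set_option backward.isDefEq.respectTransparency false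
set_option backward.isDefEq.respectTransparency.types false
universe u

open CategoryTheory CategoryTheory.Abelian Module

namespace Groth.Agent.FittLCI95

/-- `Ext¹(M, R)` is the cokernel of the dual of a presentation by free modules without kernel. -/
theorem nonempty_ext_one_equiv {R : Type u} [CommRing R] {F₁ F₀ M : Type u} [AddCommGroup F₁]
    [Module R F₁] [AddCommGroup F₀] [Module R F₀] [Module.Projective R F₀] [AddCommGroup M] [Module R M]
    (σ : F₁ →ₗ[R] F₀) (g : F₀ →ₗ[R] M) (hσ : Function.Injective σ) (hg : Function.Surjective g)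
    (hex : Function.Exact σ g) :
    Nonempty ((Dual R F₁ ⧸ LinearMap.range σ.dualMap) ≃ₗ[R]
      Ext.{u} (ModuleCat.of R M) (ModuleCat.of R R) 1) := by
  let S : ShortComplex (ModuleCat.{u} R) := ShortComplex.mk (ModuleCat.ofHom σ) (ModuleCat.ofHom g)
    (ModuleCat.hom_ext hex.linearMap_comp_eq_zero)
  have hS : S.ShortExact :=
    { exact := (ShortComplex.ShortExact.moduleCat_exact_iff_function_exact S).2 hex
      mono_f := (ModuleCat.mono_iff_injective _).2 hσ
      epi_g := (ModuleCat.epi_iff_surjective _).2 hg }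
  haveI : Projective S.X₂ := by
    rw [← IsProjective.iff_projective]
    infer_instance
  let Δ : Dual R F₁ →ₗ[R] Ext.{u} (ModuleCat.of R M) (ModuleCat.of R R) 1 :=
    Ext.precompOfLinear hS.extClass R (ModuleCat.of R R) (add_zero 1) ∘ₗ
      (Ext.linearEquiv₀ (R := R) (X := S.X₁) (Y := ModuleCat.of R R)).symm.toLinearMap ∘ₗ
      (ModuleCat.homLinearEquiv (S := R) (M := S.X₁) (N := ModuleCat.of R R)).symm.toLinearMap
  have hΔ : ∀ f : Dual R F₁, Δ f =
      hS.extClass.comp (Ext.mk₀ (ModuleCat.ofHom f)) (add_zero 1) := fun f => rfl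
  have hsurj : Function.Surjective Δ := by
    intro x
    obtain ⟨y, hy⟩ := Ext.contravariant_sequence_exact₃ hS (ModuleCat.of R R) x
      (Ext.eq_zero_of_projective _) (add_zero 1)
    obtain ⟨f, rfl⟩ := Ext.addEquiv₀.symm.surjective y
    exact ⟨f.hom, (hΔ f.hom).trans hy⟩
  have hker : LinearMap.ker Δ = LinearMap.range σ.dualMap := by
    refine Submodule.ext fun f => ?_
    rw [LinearMap.mem_ker, hΔ]
    constructor
    · intro h
      obtain ⟨y, hy⟩ := Ext.contravariant_sequence_exact₁ hS (ModuleCat.of R R) _ (add_zero 1) h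
      obtain ⟨f', rfl⟩ := Ext.addEquiv₀.symm.surjective y
      refine ⟨f'.hom, ?_⟩
      rw [Ext.addEquiv₀_symm_apply, Ext.mk₀_comp_mk₀] at hy
      have := (Ext.mk₀_bijective _ _).1 hy
      exact congrArg ModuleCat.Hom.hom this
    · rintro ⟨f', rfl⟩
      have e : ModuleCat.ofHom (σ.dualMap f') = S.f ≫ ModuleCat.ofHom f' := rfl
      rw [e, ← Ext.mk₀_comp_mk₀]
      exact hS.extClass_comp_assoc _
  exact ⟨(Submodule.quotEquivOfEq _ _ hker.symm).trans (Δ.quotKerEquivOfSurjective hsurj)⟩

end Groth.Agent.FittLCI95
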