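import Groth.Agent.FittLCI95.PolyPresentation
import Groth.Agent.CplKaehler4.Basic
import Mathlib.RingTheory.AdicCompletion.Completeness
import Mathlib.RingTheory.Filtration

/-!
# Completed differentials of an adically complete quotient of a restricted power series ring
-/

set_option autoImplicit false
set_option backward.isDefEq.respectTransparency false
set_option backward.isDefEq.respectTransparency.types false
universe u

open KaehlerDifferential MvPolynomial

namespace Groth.Agent.FittLCI95

/-- Membership in the multiples of an element. -/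
theorem mem_span_pow_smul_top {R M : Type*} [CommRing R] [AddCommGroup M] [Module R M] {t : R} {n : ℕ} {x : M} :
    x ∈ (Ideal.span {t} ^ n • ⊤ : Submodule R M) ↔ ∃ y, x = t ^ n • y := by
  rw [Ideal.span_singleton_pow, Submodule.ideal_span_singleton_smul, Submodule.mem_smul_pointwise_iff_exists]
  exact ⟨fun ⟨y, _, h⟩ => ⟨y, h.symm⟩, fun ⟨y, h⟩ => ⟨y, trivial, h.symm⟩⟩

variable {R B : Type u} [CommRing R] [CommRing B] [Algebra R B] {r c : ℕ}

/-- An algebra `B` which modulo each power of `π` is presented by `c` equations in `r` variables. -/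
structure FormalDatum (π : R) (ρ : MvPolynomial (Fin r) R →ₐ[R] B) (c : ℕ) where
  /-- approximations of the equations -/
  α : ℕ → Fin c → MvPolynomial (Fin r) R
  mem : ∀ n i, ρ (α n i) ∈ Ideal.span {algebraMap R B π ^ n}
  succ : ∀ n i, α (n + 1) i - α n i ∈ Ideal.span {MvPolynomial.C π ^ n}
  surj : ∀ n b, ∃ p, b - ρ p ∈ Ideal.span {algebraMap R B π ^ n}
  ker : ∀ n q, ρ q ∈ Ideal.span {algebraMap R B π ^ n} →
    q ∈ Ideal.span {MvPolynomial.C π ^ n} ⊔ Ideal.span (Set.range (α n))

variable {π : R} {ρ : MvPolynomial (Fin r) R →ₐ[R] B}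

theorem row_mem_of_mem (n : ℕ) {q : MvPolynomial (Fin r) R} (hq : q ∈ Ideal.span {MvPolynomial.C π ^ n})
    (j : Fin r) : row ρ q j ∈ Ideal.span {algebraMap R B π ^ n} := by
  obtain ⟨u, rfl⟩ := Ideal.mem_span_singleton'.1 hq
  refine Ideal.mem_span_singleton'.2 ⟨ρ (pderiv j u), ?_⟩
  have e : (MvPolynomial.C π : MvPolynomial (Fin r) R) ^ n = MvPolynomial.C (π ^ n) := (map_pow _ _ _).symm
  rw [e, row, mul_comm u, pderiv_C_mul, map_mul, mul_comm, ← map_pow]
  exact congrArg (· * _) (ρ.commutes _).symm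

theorem FormalDatum.sub_mem (d : FormalDatum π ρ c) (i : Fin c) {m n : ℕ} (h : m ≤ n) :
    d.α n i - d.α m i ∈ Ideal.span {MvPolynomial.C π ^ m} := by
  induction n, h using Nat.le_induction with
  | base => rw [sub_self]; exact Ideal.zero_mem _
  | succ n h ih =>
    rw [← sub_add_sub_cancel (d.α (n + 1) i) (d.α n i) (d.α m i)]
    refine add_mem ?_ ih
    exact Ideal.span_singleton_le_span_singleton.2 (pow_dvd_pow _ h) (d.succ n i)

/-- The quotient map at level `n` on the polynomial ring. -/
noncomputable def FormalDatum.level (_d : FormalDatum π ρ c) (n : ℕ) :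
    MvPolynomial (Fin r) R →ₐ[R] B ⧸ Ideal.span {algebraMap R B π ^ n} :=
  (Ideal.Quotient.mkₐ R _).comp ρ

theorem FormalDatum.level_surjective (d : FormalDatum π ρ c) (n : ℕ) : Function.Surjective (d.level n) := by
  intro x
  obtain ⟨b, rfl⟩ := Ideal.Quotient.mk_surjective x
  obtain ⟨p, hp⟩ := d.surj n b
  exact ⟨p, (Ideal.Quotient.eq.2 hp).symm⟩

theorem FormalDatum.ker_level (d : FormalDatum π ρ c) (n : ℕ) :
    RingHom.ker (d.level n).toRingHom =
      Ideal.span (insert (MvPolynomial.C π ^ n) (Set.range (d.α n))) := by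
  rw [Ideal.span_insert]
  refine le_antisymm (fun q hq => d.ker n q (Ideal.Quotient.eq_zero_iff_mem.1 hq)) ?_
  refine sup_le (Ideal.span_le.2 ?_) (Ideal.span_le.2 ?_)
  · rintro _ rfl
    refine Ideal.Quotient.eq_zero_iff_mem.2 ?_
    have e : (MvPolynomial.C π : MvPolynomial (Fin r) R) ^ n = MvPolynomial.C (π ^ n) := (map_pow _ _ _).symm
    rw [e]
    change ρ (algebraMap R _ (π ^ n)) ∈ _
    rw [ρ.commutes, map_pow]
    exact Ideal.mem_span_singleton_self _
  · rintro _ ⟨i, rfl⟩
    exact Ideal.Quotient.eq_zero_iff_mem.2 (d.mem n i)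

/-- The relations among the differentials at level `n`. -/
theorem FormalDatum.ker_toOmega_level (d : FormalDatum π ρ c) (n : ℕ) :
    LinearMap.ker (toOmega (d.level n)) =
      LinearMap.range (Fintype.linearCombination (B ⧸ Ideal.span {algebraMap R B π ^ n})
        fun i => row (d.level n) (d.α n i)) := by
  rw [ker_toOmega _ (d.level_surjective n) _ (d.ker_level n), Set.image_insert_eq, Submodule.span_insert,
    Fintype.range_linearCombination, ← Set.range_comp]
  refine sup_eq_right.2 (Submodule.span_le.2 ?_)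
  rintro _ rfl
  have e : (MvPolynomial.C π : MvPolynomial (Fin r) R) ^ n = MvPolynomial.C (π ^ n) := (map_pow _ _ _).symm
  rw [e, show row (d.level n) (MvPolynomial.C (π ^ n)) = 0 from funext fun j => by rw [row, pderiv_C, map_zero]; rfl]
  exact Submodule.zero_mem _

/-- The limit Jacobian matrix. -/
theorem FormalDatum.exists_jacobian (d : FormalDatum π ρ c)
    [IsPrecomplete (Ideal.span {algebraMap R B π}) B] :
    ∃ J : Fin c → Fin r → B, ∀ n i j,
      row ρ (d.α n i) j - J i j ∈ Ideal.span {algebraMap R B π ^ n} := by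
  have h : ∀ i j, ∃ L : B, ∀ n,
      row ρ (d.α n i) j - L ∈ Ideal.span {algebraMap R B π ^ n} := by
    intro i j
    have hI : ∀ n, (Ideal.span {algebraMap R B π} ^ n • ⊤ : Submodule B B) = Ideal.span {algebraMap R B π ^ n} :=
      fun n => by rw [smul_eq_mul, Ideal.mul_top, Ideal.span_singleton_pow]
    obtain ⟨L, hL⟩ := IsPrecomplete.prec ‹IsPrecomplete (Ideal.span {algebraMap R B π}) B›
      (f := fun n => row ρ (d.α n i) j) (fun {m n} hmn => by
        rw [SModEq.sub_mem, hI]
        have h := row_mem_of_mem (ρ := ρ) m (d.sub_mem i hmn) j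
        rw [row, map_sub, map_sub] at h
        rw [← neg_sub]
        exact Ideal.neg_mem_iff _ |>.2 h)
    exact ⟨L, fun n => by rw [← hI, ← SModEq.sub_mem]; exact hL n⟩
  choose J hJ using h
  exact ⟨J, fun n i j => hJ i j n⟩

theorem mk_smul_row (d : FormalDatum π ρ c) {J : Fin c → Fin r → B}
    (hJ : ∀ n i j, row ρ (d.α n i) j - J i j ∈ Ideal.span {algebraMap R B π ^ n}) (n : ℕ) (w : Fin c → B) (j : Fin r) :
    Fintype.linearCombination (B ⧸ Ideal.span {algebraMap R B π ^ n}) (fun i => row (d.level n) (d.α n i))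
      (fun i => Ideal.Quotient.mk _ (w i)) j = Ideal.Quotient.mk _ (Fintype.linearCombination B J w j) := by
  simp only [Fintype.linearCombination_apply, Finset.sum_apply, Pi.smul_apply, smul_eq_mul, map_sum, map_mul]
  exact Finset.sum_congr rfl fun i _ => congrArg (Ideal.Quotient.mk _ (w i) * ·) (Ideal.Quotient.eq.2 (hJ n i j))

/-- A relation among the differentials of the variables modulo `π ^ n` comes from the Jacobian rows. -/
theorem FormalDatum.exists_of_mem (d : FormalDatum π ρ c) {J : Fin c → Fin r → B}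
    (hJ : ∀ n i j, row ρ (d.α n i) j - J i j ∈ Ideal.span {algebraMap R B π ^ n}) (n : ℕ) (v : Fin r → B)
    (hv : toOmega ρ v ∈ (Ideal.span {algebraMap R B π} ^ n • ⊤ : Submodule B Ω[B⁄R])) :
    ∃ w, v - Fintype.linearCombination B J w ∈
      (Ideal.span {algebraMap R B π} ^ n • ⊤ : Submodule B (Fin r → B)) := by
  obtain ⟨y, hy⟩ := mem_span_pow_smul_top.1 hv
  let C := B ⧸ Ideal.span {algebraMap R B π ^ n}
  have h0 : toOmega (d.level n) (fun j => Ideal.Quotient.mk _ (v j)) = 0 := by
    have h := congrArg (KaehlerDifferential.map R R B C) hy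
    simp only [toOmega_apply, map_sum, map_smul, KaehlerDifferential.map_D] at h
    rw [toOmega_apply]
    refine Eq.trans (Finset.sum_congr rfl fun j _ => ?_) (h.trans ?_)
    · exact (algebraMap_smul C (v j) _)
    · rw [← algebraMap_smul C (algebraMap R B π ^ n), Ideal.Quotient.algebraMap_eq,
        Ideal.Quotient.eq_zero_iff_mem.2 (Ideal.mem_span_singleton_self _), zero_smul]
  rw [← LinearMap.mem_ker, d.ker_toOmega_level, LinearMap.mem_range] at h0
  obtain ⟨w, hw⟩ := h0
  choose w' hw' using fun i => Ideal.Quotient.mk_surjective (w i)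
  refine ⟨w', mem_span_pow_smul_top.2 ?_⟩
  have h1 : ∀ j, (v - Fintype.linearCombination B J w') j ∈ Ideal.span {algebraMap R B π ^ n} := fun j => by
    rw [← Ideal.Quotient.eq_zero_iff_mem, Pi.sub_apply, map_sub, sub_eq_zero, ← mk_smul_row d hJ,
      show (fun i => Ideal.Quotient.mk _ (w' i)) = w from funext hw']
    exact (congrFun hw j).symm
  choose z hz using fun j => Ideal.mem_span_singleton'.1 (h1 j)
  exact ⟨z, funext fun j => (hz j).symm.trans (mul_comm _ _)⟩

/-- The Jacobian rows vanish in the differentials modulo `π ^ n`. -/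
theorem FormalDatum.toOmega_row_mem (d : FormalDatum π ρ c) {J : Fin c → Fin r → B}
    (hJ : ∀ n i j, row ρ (d.α n i) j - J i j ∈ Ideal.span {algebraMap R B π ^ n}) (n : ℕ) (w : Fin c → B) :
    toOmega ρ (Fintype.linearCombination B J w) ∈
      (Ideal.span {algebraMap R B π} ^ n • ⊤ : Submodule B Ω[B⁄R]) := by
  simp only [Fintype.linearCombination_apply, map_sum, map_smul]
  refine Submodule.sum_mem _ fun i _ => Submodule.smul_mem _ _ ?_
  rw [← sub_sub_cancel (row ρ (d.α n i)) (J i), map_sub, toOmega_row]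
  refine Submodule.sub_mem _ ?_ ?_
  · obtain ⟨z, hz⟩ := Ideal.mem_span_singleton'.1 (d.mem n i)
    refine mem_span_pow_smul_top.2 ⟨D R B z, ?_⟩
    rw [← hz, Derivation.leibniz, ← map_pow, Derivation.map_algebraMap, smul_zero, zero_add]
  · choose z hz using fun j => Ideal.mem_span_singleton'.1 (hJ n i j)
    rw [show row ρ (d.α n i) - J i = algebraMap R B π ^ n • z from
      funext fun j => (hz j).symm.trans (mul_comm _ _), map_smul]
    exact mem_span_pow_smul_top.2 ⟨_, rfl⟩

/-- The completed differentials are presented by the limit Jacobian matrix. -/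
theorem FormalDatum.exists_completed_presentation (d : FormalDatum π ρ c) [IsNoetherianRing B]
    [IsAdicComplete (Ideal.span {algebraMap R B π}) B] :
    ∃ (J : Fin c → Fin r → B) (g : (Fin r → B) →ₗ[B]
        AdicCompletion (Ideal.span {algebraMap R B π}) Ω[B⁄R]),
      (∀ n i j, row ρ (d.α n i) j - J i j ∈ Ideal.span {algebraMap R B π ^ n}) ∧ Function.Surjective g ∧
      Function.Exact (Fintype.linearCombination B J) g := by
  obtain ⟨J, hJ⟩ := d.exists_jacobian
  let I := Ideal.span {algebraMap R B π}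
  let g : (Fin r → B) →ₗ[B] AdicCompletion I Ω[B⁄R] := (AdicCompletion.of I Ω[B⁄R]).comp (toOmega ρ)
  have hspan : Submodule.span B (Set.range fun j => D R B (ρ (X j))) ⊔ I • ⊤ = ⊤ := by
    rw [eq_top_iff, ← KaehlerDifferential.span_range_derivation, Submodule.span_le]
    rintro _ ⟨b, rfl⟩
    obtain ⟨p, hp⟩ := d.surj 1 b
    obtain ⟨z, hz⟩ := Ideal.mem_span_singleton'.1 hp
    rw [eq_add_of_sub_eq hz.symm, map_add, Derivation.leibniz, pow_one, Derivation.map_algebraMap,
      smul_zero, zero_add, ← toOmega_row]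
    refine add_mem (Submodule.mem_sup_right ?_) (Submodule.mem_sup_left ?_)
    · exact Submodule.smul_mem_smul (Ideal.mem_span_singleton_self _) (Submodule.subset_span ⟨z, rfl⟩)
    · rw [toOmega, ← Fintype.range_linearCombination B (fun j => D R B (ρ (X j)))]
      exact LinearMap.mem_range_self _ _
  have hsurj : Function.Surjective g := by
    rw [← LinearMap.range_eq_top, eq_top_iff, ← Groth.Agent.CplKaehler4.span_eq_top I _ hspan, Submodule.span_le]
    rintro _ ⟨j, rfl⟩
    refine ⟨Pi.single j 1, ?_⟩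
    simp [g, toOmega]
  have hg : ∀ v, g v = 0 ↔ ∀ n, toOmega ρ v ∈ (I ^ n • ⊤ : Submodule B Ω[B⁄R]) := fun v => by
    rw [AdicCompletion.ext_iff]
    exact forall_congr' fun n => Submodule.Quotient.mk_eq_zero _
  refine ⟨J, g, hJ, hsurj, fun v => ⟨fun hv => ?_, ?_⟩⟩
  · have hjac : I ≤ (⊥ : Ideal B).jacobson := IsAdicComplete.le_jacobson_bot I
    have hb := Ideal.iInf_pow_smul_eq_bot_of_le_jacobson I
      (M := (Fin r → B) ⧸ LinearMap.range (Fintype.linearCombination B J)) hjac
    rw [← LinearMap.coe_range, SetLike.mem_coe, ← Submodule.Quotient.mk_eq_zero, ← Submodule.mem_bot B, ← hb,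
      Submodule.mem_iInf]
    intro n
    obtain ⟨w, hw⟩ := d.exists_of_mem hJ n v ((hg v).1 hv n)
    obtain ⟨z, hz⟩ := mem_span_pow_smul_top.1 hw
    refine mem_span_pow_smul_top.2 ⟨Submodule.Quotient.mk z, ?_⟩
    rw [← Submodule.Quotient.mk_smul, ← hz, Submodule.Quotient.eq]
    exact ⟨w, (sub_sub_cancel v _).symm⟩
  · rintro ⟨w, rfl⟩
    exact (hg _).2 fun n => d.toOmega_row_mem hJ n w

/-- Injectivity modulo `π` lifts. -/
theorem injective_of_mod [IsHausdorff (Ideal.span {algebraMap R B π}) B]
    (ht : algebraMap R B π ∈ nonZeroDivisors B) (σ : (Fin c → B) →ₗ[B] (Fin r → B))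
    (h : ∀ v, (∀ j, σ v j ∈ Ideal.span {algebraMap R B π}) → ∀ i, v i ∈ Ideal.span {algebraMap R B π}) :
    Function.Injective σ := by
  have key : ∀ (n : ℕ) v, σ v = 0 → ∀ i, v i ∈ Ideal.span {algebraMap R B π ^ n} := by
    intro n
    induction n with
    | zero => intro v _ i; simp
    | succ n ih =>
      intro v hv i
      choose u hu using fun i => Ideal.mem_span_singleton'.1 (h v (fun j => by simp [hv]) i)
      have hv' : algebraMap R B π • u = v := funext fun i => (mul_comm _ _).trans (hu i)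
      have h0 : σ u = 0 := funext fun j => (mul_left_mem_nonZeroDivisors_eq_zero_iff ht).1
        (by rw [← smul_eq_mul, ← Pi.smul_apply, ← map_smul, hv', hv]; rfl)
      obtain ⟨z, hz⟩ := Ideal.mem_span_singleton'.1 (ih u h0 i)
      exact Ideal.mem_span_singleton'.2 ⟨z, by rw [← hu i, ← hz]; ring⟩
  refine (injective_iff_map_eq_zero σ).2 fun v hv => funext fun i =>
    IsHausdorff.haus ‹IsHausdorff (Ideal.span {algebraMap R B π}) B› (v i) fun n => ?_
  rw [SModEq.zero, smul_eq_mul, Ideal.mul_top, Ideal.span_singleton_pow]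
  exact key n v hv i

end Groth.Agent.FittLCI95
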