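import Groth.Agent.FittLCI95.ClosedFibre
import Groth.Agent.FittLCI95.ExtCoker
import Groth.Agent.FittX.Free
import Mathlib.LinearAlgebra.TensorProduct.Tower

/-!
# Formal complete intersections over `k[[t]]`: presentation of the completed differentials
-/

set_option autoImplicit false
set_option backward.isDefEq.respectTransparency false
set_option backward.isDefEq.respectTransparency.types false
universe u

open MvPolynomial TensorProduct Module

namespace Groth.Agent.FittLCI95

/-- An element killing a finite module has a power in the zeroth Fitting ideal. -/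
theorem exists_pow_mem_ideal_zero {R M : Type u} [CommRing R] [AddCommGroup M] [Module R M] [Module.Finite R M]
    (s : R) (hs : ∀ x : M, s • x = 0) : ∃ n, s ^ n ∈ Fitt.ideal R M 0 := by
  classical
  obtain ⟨n, x, hx⟩ := Groth.Agent.FittX.exists_gen R M
  refine ⟨n, ?_⟩
  rw [Groth.Agent.FittX.ideal_eq_minors x hx, Nat.sub_zero, Groth.Agent.FittX.minors_rel_eq_span]
  refine Ideal.subset_span ⟨fun b => Pi.single b s, id, fun b => ?_, ?_⟩
  · rw [Groth.Agent.FittX.mem_rel]
    simp [Pi.single_apply, ite_smul, hs]
  · rw [Groth.Agent.FittX.cminor, show (Matrix.of fun b a => (Pi.single b s : Fin n → R) (id a)) =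
      Matrix.diagonal fun _ => s from ?_, Matrix.det_diagonal]
    · simp
    · ext b a
      simp [Pi.single_apply, Matrix.diagonal_apply, eq_comm]

/-- The cokernel of the dual of a map of free modules is presented by the columns of its matrix. -/
theorem nonempty_coker_dual_equiv {C : Type u} [CommRing C] {c r : ℕ} (J : Fin c → Fin r → C) :
    Nonempty ((Dual C (Fin c → C) ⧸ LinearMap.range (Fintype.linearCombination C J).dualMap) ≃ₗ[C]
      (Fin c → C) ⧸ Submodule.span C (Set.range fun j i => J i j)) := by
  classical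
  let e : Dual C (Fin c → C) ≃ₗ[C] (Fin c → C) := (Pi.basisFun C (Fin c)).dualBasis.equivFun
  let e' : Dual C (Fin r → C) ≃ₗ[C] (Fin r → C) := (Pi.basisFun C (Fin r)).dualBasis.equivFun
  refine ⟨Submodule.Quotient.equiv _ _ e ?_⟩
  rw [show LinearMap.range (Fintype.linearCombination C J).dualMap =
    LinearMap.range ((Fintype.linearCombination C J).dualMap ∘ₗ e'.symm.toLinearMap) from
      (LinearMap.range_comp_of_range_eq_top _ (LinearEquiv.range _)).symm, ← LinearMap.range_comp,
    ← Fintype.range_linearCombination]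
  refine congrArg LinearMap.range (LinearMap.pi_ext' fun j => LinearMap.ext_ring (funext fun i => ?_))
  simp [e, e', Fintype.linearCombination_apply, Pi.single_apply, ite_apply]

/-- Base change of a module presented by columns. -/
theorem nonempty_tensor_coker_equiv {B : Type u} (C : Type u) [CommRing B] [CommRing C] [Algebra B C] {c r : ℕ}
    (J : Fin c → Fin r → B) :
    Nonempty (C ⊗[B] ((Fin c → B) ⧸ Submodule.span B (Set.range fun j i => J i j)) ≃ₗ[C]
      (Fin c → C) ⧸ Submodule.span C (Set.range fun j i => algebraMap B C (J i j))) := by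
  classical
  let K := Submodule.span B (Set.range fun j i => J i j)
  let K' := Submodule.span C (Set.range fun j i => algebraMap B C (J i j))
  let q : (Fin c → B) →ₗ[B] (Fin c → C) ⧸ K' :=
    (K'.mkQ.restrictScalars B).comp ((Algebra.linearMap B C).compLeft (Fin c))
  let f : (Fin c → B) ⧸ K →ₗ[B] (Fin c → C) ⧸ K' := K.liftQ q (Submodule.span_le.2 (by
    rintro _ ⟨j, rfl⟩
    exact (Submodule.Quotient.mk_eq_zero _).2 (Submodule.subset_span ⟨j, rfl⟩)))
  let g : (Fin c → C) ⧸ K' →ₗ[C] C ⊗[B] ((Fin c → B) ⧸ K) :=
    K'.liftQ (Fintype.linearCombination C fun i => (1 : C) ⊗ₜ K.mkQ (Pi.single i 1)) (Submodule.span_le.2 (by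
      rintro _ ⟨j, rfl⟩
      simp only [SetLike.mem_coe, LinearMap.mem_ker, Fintype.linearCombination_apply, algebraMap_smul]
      simp only [← tmul_smul, ← map_smul, ← tmul_sum, ← map_sum]
      rw [show ∑ i, J i j • (Pi.single i 1 : Fin c → B) = fun i => J i j by
        ext i; simp [Finset.sum_apply, Pi.single_apply],
        show K.mkQ (fun i => J i j) = 0 from (Submodule.Quotient.mk_eq_zero _).2 (Submodule.subset_span ⟨j, rfl⟩),
        tmul_zero]))
  have hg : ∀ w, g (K'.mkQ w) = ∑ i, w i • ((1 : C) ⊗ₜ K.mkQ (Pi.single i 1)) := fun w =>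
    Fintype.linearCombination_apply C _ w
  have hf : ∀ x v, f.liftBaseChange C (x ⊗ₜ K.mkQ v) = x • K'.mkQ (fun i => algebraMap B C (v i)) :=
    fun x v => LinearMap.liftBaseChange_tmul C f x _
  refine ⟨LinearEquiv.ofLinear (f.liftBaseChange C) g ?_ ?_⟩
  · refine Submodule.linearMap_qext _ (LinearMap.pi_ext' fun i => LinearMap.ext_ring ?_)
    simp only [LinearMap.comp_apply, LinearMap.coe_single, LinearMap.id_comp]
    rw [hg, map_sum, Finset.sum_eq_single i (fun l _ hl => by simp [hl]) (by simp), map_smul, hf,
      Pi.single_eq_same, one_smul, one_smul]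
    refine congrArg _ (funext fun j => ?_)
    by_cases h : j = i <;> simp [h]
  · refine AlgebraTensorModule.ext fun x y => ?_
    obtain ⟨v, rfl⟩ := Submodule.mkQ_surjective _ y
    rw [LinearMap.id_apply, LinearMap.comp_apply, hf, map_smul, hg]
    simp only [algebraMap_smul]
    simp only [← tmul_smul, ← map_smul, ← tmul_sum, ← map_sum, smul_tmul', smul_eq_mul, mul_one]
    refine congrArg (fun w => x ⊗ₜ[B] K.mkQ w) (funext fun j => ?_)
    simp [Finset.sum_apply, Pi.single_apply]

variable {R B : Type u} [CommRing R] [CommRing B] [Algebra R B] {r c : ℕ} {π : R}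

/-- Divisibility by powers descends along a map injective modulo `π`. -/
theorem mem_pow_of_mod (ht : algebraMap R B π ∈ nonZeroDivisors B) (σ : (Fin c → B) →ₗ[B] (Fin r → B))
    (h : ∀ v, (∀ j, σ v j ∈ Ideal.span {algebraMap R B π}) → ∀ i, v i ∈ Ideal.span {algebraMap R B π})
    (n : ℕ) : ∀ v, (∀ j, σ v j ∈ Ideal.span {algebraMap R B π ^ n}) →
      ∀ i, v i ∈ Ideal.span {algebraMap R B π ^ n} := by
  induction n with
  | zero => intro v _ i; simp
  | succ n ih =>
    intro v hv i
    choose u hu using fun i => Ideal.mem_span_singleton'.1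
      (h v (fun j => Ideal.span_singleton_le_span_singleton.2 (dvd_pow_self _ n.succ_ne_zero) (hv j)) i)
    have hv' : algebraMap R B π • u = v := funext fun i => (mul_comm _ _).trans (hu i)
    have h0 : ∀ j, σ u j ∈ Ideal.span {algebraMap R B π ^ n} := fun j => by
      obtain ⟨z, hz⟩ := Ideal.mem_span_singleton'.1 (hv j)
      rw [← hv', map_smul, Pi.smul_apply, smul_eq_mul] at hz
      refine Ideal.mem_span_singleton'.2 ⟨z, (mul_cancel_left_mem_nonZeroDivisors ht).1 ?_⟩
      rw [← hz]; ring
    obtain ⟨z, hz⟩ := Ideal.mem_span_singleton'.1 (ih u h0 i)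
    exact Ideal.mem_span_singleton'.2 ⟨z, by rw [← hu i, ← hz]; ring⟩

theorem algebraMap_X_mem_nonZeroDivisors {k B : Type u} [Field k] [CommRing B] [Algebra (PowerSeries k) B]
    [Module.Flat (PowerSeries k) B] : algebraMap (PowerSeries k) B PowerSeries.X ∈ nonZeroDivisors B := by
  have h := Module.Flat.isSMulRegular_of_nonZeroDivisors (M := B)
    (mem_nonZeroDivisors_of_ne_zero (PowerSeries.X_ne_zero (R := k)))
  refine mem_nonZeroDivisors_iff_right.2 fun x hx => h ?_
  simpa [Algebra.smul_def, mul_comm] using hx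

/-- The presentation of the completed differentials of a formal complete intersection and of all its levels. -/
theorem exists_formal_presentation {k : Type u} [Field k] [PerfectField k] {r c : ℕ}
    (a : Fin c → Restricted (PowerSeries.X (R := k)) r)
    {B : Type u} [CommRing B] [Algebra (PowerSeries k) B] [IsNoetherianRing B]
    [IsAdicComplete (Ideal.span {algebraMap (PowerSeries k) B PowerSeries.X}) B]
    [Module.Flat (PowerSeries k) B]
    (ψ : Restricted (PowerSeries.X (R := k)) r →ₐ[PowerSeries k] B)
    (hψ : Function.Surjective ψ) (hker : RingHom.ker ψ.toRingHom = Ideal.span (Set.range a))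
    (hreg : RingTheory.Sequence.IsRegular
      (Restricted (PowerSeries.X (R := k)) r ⧸
        Ideal.span {algebraMap (PowerSeries k) (Restricted (PowerSeries.X (R := k)) r) PowerSeries.X ^ (0 + 1)})
      ((List.ofFn a).map (Ideal.Quotient.mk (Ideal.span {algebraMap (PowerSeries k)
        (Restricted (PowerSeries.X (R := k)) r) PowerSeries.X ^ (0 + 1)}))))
    [IsReduced (B ⧸ Ideal.span {algebraMap (PowerSeries k) B PowerSeries.X})] :
    ∃ (J : Fin c → Fin r → B) (g : (Fin r → B) →ₗ[B]
        AdicCompletion (Ideal.span {algebraMap (PowerSeries k) B PowerSeries.X}) Ω[B⁄PowerSeries k]),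
      Function.Injective (Fintype.linearCombination B J) ∧ Function.Surjective g ∧
      Function.Exact (Fintype.linearCombination B J) g ∧
      ∀ n : ℕ, ∃ gn : (Fin r → B ⧸ Ideal.span {algebraMap (PowerSeries k) B PowerSeries.X ^ (n + 1)}) →ₗ[
          B ⧸ Ideal.span {algebraMap (PowerSeries k) B PowerSeries.X ^ (n + 1)}]
          Ω[(B ⧸ Ideal.span {algebraMap (PowerSeries k) B PowerSeries.X ^ (n + 1)})⁄PowerSeries k],
        Function.Injective (Fintype.linearCombination (B ⧸ Ideal.span {algebraMap (PowerSeries k) B PowerSeries.X ^ (n + 1)})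
          fun i j => algebraMap B (B ⧸ Ideal.span {algebraMap (PowerSeries k) B PowerSeries.X ^ (n + 1)}) (J i j)) ∧
        Function.Surjective gn ∧
        Function.Exact (Fintype.linearCombination (B ⧸ Ideal.span {algebraMap (PowerSeries k) B PowerSeries.X ^ (n + 1)})
          fun i j => algebraMap B (B ⧸ Ideal.span {algebraMap (PowerSeries k) B PowerSeries.X ^ (n + 1)}) (J i j)) gn := by
  obtain ⟨d, hd⟩ := exists_datum _ ψ hψ a hker
  obtain ⟨J, g, hJ, hg, hex⟩ := d.exists_completed_presentation
  have hmod := mem_of_mod a ψ d hd hreg hJ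
  have ht := algebraMap_X_mem_nonZeroDivisors (k := k) (B := B)
  refine ⟨J, g, injective_of_mod ht _ hmod, hg, hex, fun n => ⟨toOmega (d.level (n + 1)), ?_,
    toOmega_surjective _ (d.level_surjective _), ?_⟩⟩
  · refine (injective_iff_map_eq_zero _).2 fun v hv => funext fun i => ?_
    choose w hw using fun i => Ideal.Quotient.mk_surjective (v i)
    rw [← hw i]
    refine Ideal.Quotient.eq_zero_iff_mem.2 (mem_pow_of_mod ht _ hmod _ w (fun j => ?_) i)
    rw [← Ideal.Quotient.eq_zero_iff_mem]
    refine Eq.trans ?_ (congrFun hv j)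
    simp [Fintype.linearCombination_apply, Finset.sum_apply, ← hw]
  · rw [show (fun i j => algebraMap B (B ⧸ Ideal.span {algebraMap (PowerSeries k) B PowerSeries.X ^ (n + 1)}) (J i j)) =
      fun i => row (d.level (n + 1)) (d.α (n + 1) i) from
        funext fun i => funext fun j => (Ideal.Quotient.eq.2 (hJ (n + 1) i j)).symm]
    exact LinearMap.exact_iff.2 (d.ker_toOmega_level _)

end Groth.Agent.FittLCI95
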