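import Mathlib.RingTheory.Extension.Cotangent.Basic
import Mathlib.RingTheory.Kaehler.Polynomial

/-!
# The differentials of a quotient of a polynomial ring
-/

set_option autoImplicit false
set_option backward.isDefEq.respectTransparency false
set_option backward.isDefEq.respectTransparency.types false
universe u

open TensorProduct KaehlerDifferential MvPolynomial

namespace Groth.Agent.FittLCI95

variable {R C : Type u} [CommRing R] [CommRing C] [Algebra R C] {r : ℕ}

/-- The map `C^r → Ω[C⁄R]` on the differentials of the images of the variables. -/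
noncomputable def toOmega (φ : MvPolynomial (Fin r) R →ₐ[R] C) : (Fin r → C) →ₗ[C] Ω[C⁄R] :=
  Fintype.linearCombination C fun j => D R C (φ (X j))

theorem toOmega_apply (φ : MvPolynomial (Fin r) R →ₐ[R] C) (v : Fin r → C) :
    toOmega φ v = ∑ j, v j • D R C (φ (X j)) :=
  Fintype.linearCombination_apply _ _ _

/-- The Jacobian row of a polynomial. -/
noncomputable def row (φ : MvPolynomial (Fin r) R →ₐ[R] C) (q : MvPolynomial (Fin r) R) : Fin r → C :=
  fun j => φ (pderiv j q)

theorem row_add (φ : MvPolynomial (Fin r) R →ₐ[R] C) (p q : MvPolynomial (Fin r) R) :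
    row φ (p + q) = row φ p + row φ q := by ext j; simp [row]

theorem row_mul (φ : MvPolynomial (Fin r) R →ₐ[R] C) (p q : MvPolynomial (Fin r) R) :
    row φ (p * q) = φ q • row φ p + φ p • row φ q := by
  ext j; simp [row]; ring

/-- The chain rule. -/
theorem toOmega_row (φ : MvPolynomial (Fin r) R →ₐ[R] C) (q : MvPolynomial (Fin r) R) :
    toOmega φ (row φ q) = D R C (φ q) := by
  classical
  induction q using MvPolynomial.induction_on with
  | C a =>
    rw [show row φ (MvPolynomial.C a) = 0 by ext j; simp [row], map_zero]
    exact ((D R C).map_algebraMap a).symm.trans (congrArg _ (φ.commutes a).symm)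
  | add p q hp hq => rw [row_add, map_add, hp, hq, map_add, map_add]
  | mul_X p n hp =>
    rw [row_mul, map_add, map_smul, map_smul, hp, map_mul, Derivation.leibniz,
      show row φ (X n) = Pi.single n 1 by ext j; simp [row, Pi.single_apply, eq_comm],
      toOmega, Fintype.linearCombination_apply_single, one_smul, add_comm]

theorem toOmega_surjective (φ : MvPolynomial (Fin r) R →ₐ[R] C) (hφ : Function.Surjective φ) :
    Function.Surjective (toOmega φ) := by
  rw [← LinearMap.range_eq_top, eq_top_iff, ← KaehlerDifferential.span_range_derivation, Submodule.span_le]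
  rintro _ ⟨c, rfl⟩
  obtain ⟨q, rfl⟩ := hφ c
  exact ⟨_, toOmega_row φ q⟩

/-- The relations among the differentials of the variables are generated by the Jacobian rows of
generators of the kernel. -/
theorem ker_toOmega (φ : MvPolynomial (Fin r) R →ₐ[R] C) (hφ : Function.Surjective φ)
    (G : Set (MvPolynomial (Fin r) R)) (hG : RingHom.ker φ.toRingHom = Ideal.span G) :
    LinearMap.ker (toOmega φ) = Submodule.span C (row φ '' G) := by
  classical
  refine le_antisymm (fun v hv => ?_) (Submodule.span_le.2 ?_)
  swap
  · rintro _ ⟨q, hq, rfl⟩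
    rw [SetLike.mem_coe, LinearMap.mem_ker, toOmega_row,
      show φ q = 0 from RingHom.mem_ker.1 (hG ▸ Ideal.subset_span hq), map_zero]
  let P : Algebra.Generators R C (Fin r) := Algebra.Generators.ofAlgHom φ hφ
  have hval : ∀ p : MvPolynomial (Fin r) R, aeval P.val p = φ p := fun p =>
    congr($(show aeval (φ ∘ X) = φ from by ext i; simp) p)
  let x := P.cotangentSpaceBasis.equivFun.symm v
  have hx : P.toExtension.toKaehler x = 0 := by
    rw [LinearMap.mem_ker, toOmega_apply] at hv
    simp only [x, Module.Basis.equivFun_symm_apply, map_sum, map_smul,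
      Algebra.Generators.cotangentSpaceBasis_apply]
    refine Eq.trans (Finset.sum_congr rfl fun j _ => congrArg (v j • ·) ?_) hv
    exact P.toKaehler_tmul_D j
  obtain ⟨z, hz⟩ := (P.toExtension.exact_cotangentComplex_toKaehler x).1 hx
  obtain ⟨⟨q, hq⟩, rfl⟩ := Algebra.Extension.Cotangent.mk_surjective z
  have hvq : v = row φ q := by
    have h := congrArg P.cotangentSpaceBasis.equivFun hz
    rw [LinearEquiv.apply_symm_apply] at h
    rw [← h]
    ext j
    rw [Algebra.Extension.cotangentComplex_mk, Module.Basis.equivFun_apply]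
    exact (P.cotangentSpaceBasis_repr_one_tmul q j).trans (hval _)
  subst hvq
  have hq' : q ∈ Ideal.span G := by
    rw [← hG, RingHom.mem_ker]
    exact (hval q).symm.trans hq
  suffices ∀ p ∈ Ideal.span G, φ p = 0 ∧ row φ p ∈ Submodule.span C (row φ '' G) from (this q hq').2
  intro p hp
  induction hp using Submodule.span_induction with
  | mem p hp => exact ⟨RingHom.mem_ker.1 (hG ▸ Ideal.subset_span hp), Submodule.subset_span ⟨p, hp, rfl⟩⟩
  | zero => exact ⟨map_zero φ, by rw [show row φ 0 = 0 by ext j; simp [row]]; exact Submodule.zero_mem _⟩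
  | add a b _ _ ha hb => exact ⟨by rw [map_add, ha.1, hb.1, add_zero], by rw [row_add]; exact add_mem ha.2 hb.2⟩
  | smul s a _ ha =>
    refine ⟨by rw [smul_eq_mul, map_mul, ha.1, mul_zero], ?_⟩
    rw [smul_eq_mul, row_mul, ha.1, zero_smul, zero_add]
    exact Submodule.smul_mem _ _ ha.2

end Groth.Agent.FittLCI95
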